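import Cfsg.Agent.H545.WielandtYoshida2
set_option linter.all false

/-!
# Yoshida's theorem: without a quotient `C_p ≀ C_p` of the Sylow `p`-subgroup its normalizer controls transfer
-/

set_option autoImplicit false

namespace Cfsg.Agent.H545.Yoshida

open Cfsg Cfsg.Agent.H545.WielandtYoshida Cfsg.Agent.H545.CommIter Polynomial
open scoped commutatorElement

universe u

theorem kills_of_poly {R : Type*} [Group R] {p : ℕ} [hp : Fact p.Prime] (σ : R →* R)
    (φ : R → ZMod p) (hσp : ∀ r, φ (σ^[p] r) = φ r)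
    (a : (ZMod p)[X]) (ha : a ≠ 0) (hdeg : a.degree < p)
    (hkill : (aeval (opT p σ) a) φ = 0) : ((opT p σ - 1) ^ (p - 1)) φ = 0 := by
  set T := opT p σ with hT
  obtain ⟨b, hab, hb⟩ := exists_eq_pow_rootMultiplicity_mul_and_not_dvd a ha 1
  set j := rootMultiplicity 1 a with hj
  have hjlt : j < p := by
    have h1 : j ≤ a.natDegree := by
      have h3 : ((X : (ZMod p)[X]) - C 1) ^ j ∣ a := ⟨b, hab⟩
      have h4 := Polynomial.natDegree_le_of_dvd h3 ha
      rwa [natDegree_pow, natDegree_X_sub_C, mul_one] at h4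
    have h2 : a.natDegree < p := (natDegree_lt_iff_degree_lt ha).mpr hdeg
    omega
  have hcop : IsCoprime (((X : (ZMod p)[X]) - C 1) ^ p) b :=
    (((irreducible_X_sub_C (1 : ZMod p)).coprime_iff_not_dvd).mpr hb).pow_left
  obtain ⟨s, t, hst⟩ := hcop
  have hTp : aeval T (((X : (ZMod p)[X]) - C 1) ^ p) φ = 0 := by
    have h1 : ((X : (ZMod p)[X]) - C 1) ^ p = X ^ p - 1 := by
      rw [sub_pow_char, ← C_pow, one_pow, C_1]
    rw [h1, map_sub, map_pow, aeval_X, map_one]
    have h2 : (T ^ p - 1) φ = (T ^ p) φ - φ := rfl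
    rw [h2]
    funext r
    rw [Pi.sub_apply, hT, opT_pow_apply, hσp, sub_self]
    rfl
  have h1 : (T - 1) ^ (p - 1) = aeval T (((X : (ZMod p)[X]) - C 1) ^ (p - 1)) := by
    simp
  have h2 : ((X : (ZMod p)[X]) - C 1) ^ (p - 1) =
      (s * (X - C 1) ^ (p - 1)) * (X - C 1) ^ p + (t * (X - C 1) ^ (p - 1 - j)) * a := by
    have h3 : ((X : (ZMod p)[X]) - C 1) ^ (p - 1) = (X - C 1) ^ (p - 1 - j) * (X - C 1) ^ j := by
      rw [← pow_add]; congr 1; omega
    have h4 : ∀ A B D E b a s t : (ZMod p)[X], A = D * E → a = E * b → s * B + t * b = 1 →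
        A = (s * A) * B + (t * D) * a := by
      intro A B D E b a s t h5 h6 h7
      have h8 : A = A * (s * B + t * b) := by rw [h7, mul_one]
      rw [h6]
      calc A = A * (s * B + t * b) := h8
        _ = s * A * B + t * b * A := by ring
        _ = s * A * B + t * b * (D * E) := by rw [← h5]
        _ = _ := by ring
    exact h4 _ _ _ _ b a s t h3 hab hst
  rw [h1, h2, map_add, LinearMap.add_apply, map_mul, map_mul (aeval T) _ a, Module.End.mul_apply,
    Module.End.mul_apply, hTp, hkill, map_zero, map_zero, add_zero]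

theorem surjective_of_comm {R : Type*} [Group R] {p : ℕ} [hp : Fact p.Prime] (σ : R →* R)
    (φ : R →* Multiplicative (ZMod p)) (hσp : ∀ r, φ (σ^[p] r) = φ r) (u : R)
    (hu : φ ((fun w => w⁻¹ * σ w)^[p - 1] u) ≠ 1) :
    Function.Surjective (fun (r : R) (i : Fin p) => φ (σ^[(i : ℕ)] r)) := by
  let ψ : R → ZMod p := fun v => Multiplicative.toAdd (φ v)
  have hψ : ∀ v w, ψ (v * w) = ψ v + ψ w := fun v w => by
    simp only [ψ, map_mul, toAdd_mul]
  have hψ1 : ψ 1 = 0 := by simp [ψ]
  have hψinv : ∀ v, ψ v⁻¹ = - ψ v := fun v => by simp [ψ]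
  have hit : ∀ (i : ℕ) (v w : R), σ^[i] (v * w) = σ^[i] v * σ^[i] w := by
    intro i
    induction i with
    | zero => intro v w; rfl
    | succ i ih => intro v w; rw [Function.iterate_succ_apply, map_mul, ih]; rfl
  have hit1 : ∀ (i : ℕ), σ^[i] (1 : R) = 1 := by
    intro i
    induction i with
    | zero => rfl
    | succ i ih => rw [Function.iterate_succ_apply, map_one, ih]
  -- the image as a subspace
  let M₀ : AddSubgroup (Fin p → ZMod p) :=
    { carrier := Set.range (fun (r : R) (i : Fin p) => ψ (σ^[(i : ℕ)] r))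
      add_mem' := by
        rintro _ _ ⟨v, rfl⟩ ⟨w, rfl⟩
        refine ⟨v * w, ?_⟩
        funext i
        simp only [hit, hψ]
        rfl
      zero_mem' := ⟨1, by funext i; simp only [hit1, hψ1]; rfl⟩
      neg_mem' := by
        rintro _ ⟨v, rfl⟩
        refine ⟨v⁻¹, ?_⟩
        funext i
        have h1 : σ^[(i : ℕ)] v⁻¹ = (σ^[(i : ℕ)] v)⁻¹ := by
          rw [eq_inv_iff_mul_eq_one, ← hit, inv_mul_cancel, hit1]
        simp only [h1, hψinv]
        rfl }
  let M : Submodule (ZMod p) (Fin p → ZMod p) := AddSubgroup.toZModSubmodule p M₀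
  have hM : M = ⊤ := by
    by_contra hne
    obtain ⟨g, hg, hgM⟩ := Submodule.exists_le_ker_of_lt_top M (lt_top_iff_ne_top.mpr hne)
    let a : (ZMod p)[X] := ∑ i : Fin p, C (g (Pi.single i 1)) * X ^ (i : ℕ)
    have ha : a ≠ 0 := by
      intro h0
      apply hg
      refine LinearMap.pi_ext' fun i => ?_
      apply LinearMap.ext_ring
      have h1 : a.coeff i = g (Pi.single i 1) := by
        simp only [a, finsetSum_coeff, coeff_C_mul, coeff_X_pow]
        rw [Finset.sum_eq_single i]
        · simp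
        · intro b _ hb
          rw [if_neg, mul_zero]
          intro h
          exact hb (Fin.ext h.symm)
        · intro h
          exact absurd (Finset.mem_univ _) h
      rw [h0, coeff_zero] at h1
      simpa using h1.symm
    have hdeg : a.degree < p := degree_sum_fin_lt _
    have hkill : (aeval (opT p σ) a) ψ = 0 := by
      funext r
      simp only [a, map_sum, map_mul, aeval_C, map_pow, aeval_X]
      rw [LinearMap.sum_apply, Finset.sum_apply]
      have h1 : ∀ i : Fin p, ((algebraMap (ZMod p) (Module.End (ZMod p) (R → ZMod p))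
          (g (Pi.single i 1)) * opT p σ ^ (i : ℕ)) ψ) r = ψ (σ^[(i : ℕ)] r) * g (Pi.single i 1) := by
        intro i
        rw [Module.End.mul_apply, Module.algebraMap_end_apply, Pi.smul_apply, opT_pow_apply,
          smul_eq_mul, mul_comm]
      rw [Finset.sum_congr rfl fun i _ => h1 i]
      have h2 : (fun i : Fin p => ψ (σ^[(i : ℕ)] r)) ∈ M := ⟨r, rfl⟩
      have h3 := hgM h2
      rw [LinearMap.mem_ker, LinearMap.pi_apply_eq_sum_univ] at h3
      simp only [smul_eq_mul] at h3
      rw [Pi.zero_apply, ← h3]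
      refine Finset.sum_congr rfl fun i _ => ?_
      congr 2
      funext j
      simp [Pi.single_apply, eq_comm]
    have h := kills_of_poly σ ψ (fun r => congrArg Multiplicative.toAdd (hσp r)) a ha hdeg hkill
    apply hu
    have h2 := opT_sub_one_pow_apply σ (p - 1) ψ hψ u
    rw [h] at h2
    exact congrArg Multiplicative.ofAdd h2.symm
  intro y
  have hy : (fun i => Multiplicative.toAdd (y i)) ∈ M := by rw [hM]; exact Submodule.mem_top
  obtain ⟨r, hr⟩ := hy
  exact ⟨r, by
    funext i
    exact congrArg Multiplicative.ofAdd (congrFun hr i)⟩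

/-- The image of a finite `p`-group with suitable data in the symmetric group of degree `p ^ 2` is a
Sylow subgroup. -/
theorem exists_surjective_of_comm {Q : Type*} [Group Q] [Finite Q] {p : ℕ} [hp : Fact p.Prime]
    (hQ : IsPGroup p Q) (R : Subgroup Q) [hR : R.Normal] (hidx : R.index = p)
    (lam : R →* Multiplicative (ZMod p)) (z : Q) (u : R)
    (hm : (fun y : Q => y⁻¹ * z⁻¹ * y * z)^[p - 1] (u : Q) ∈ R)
    (hlam : lam ⟨_, hm⟩ ≠ 1) :
    ∃ (P : Sylow p (Equiv.Perm (Fin (p ^ 2))))
      (f : Q →* ↥(P : Subgroup (Equiv.Perm (Fin (p ^ 2))))), Function.Surjective f := by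
  classical
  have hRconj : ∀ r ∈ R, z⁻¹ * r * z ∈ R := by
    intro r hr
    have := hR.conj_mem r hr z⁻¹
    rwa [inv_inv] at this
  let σ : R →* R :=
    { toFun := fun r => ⟨z⁻¹ * r * z, hRconj r r.2⟩
      map_one' := by apply Subtype.ext; simp
      map_mul' := by
        intro a b
        apply Subtype.ext
        simp only [Subgroup.coe_mul]
        group }
  have hσ : ∀ r : R, (σ r : Q) = z⁻¹ * r * z := fun r => rfl
  have hzp : z ^ p ∈ R := by
    have h1 : (QuotientGroup.mk' R z) ^ p = 1 := by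
      rw [← hidx, Subgroup.index_eq_card]
      exact pow_card_eq_one'
    rw [← map_pow] at h1
    exact (QuotientGroup.eq_one_iff _).mp h1
  have hσp : ∀ r, lam (σ^[p] r) = lam r := by
    intro r
    have h1 : σ^[p] r = (⟨z ^ p, hzp⟩ : R)⁻¹ * r * ⟨z ^ p, hzp⟩ := by
      apply Subtype.ext
      rw [iterate_conj R σ z hσ]
      rfl
    rw [h1, map_mul, map_mul, map_inv, mul_comm (lam _)⁻¹, mul_assoc, inv_mul_cancel, mul_one]
  have hu : lam ((fun w => w⁻¹ * σ w)^[p - 1] u) ≠ 1 := by
    have h1 : (fun w => w⁻¹ * σ w)^[p - 1] u = ⟨_, hm⟩ := by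
      apply Subtype.ext
      rw [iterate_comm R σ z hσ]
    rw [h1]
    exact hlam
  have hsurj := surjective_of_comm σ lam hσp u hu
  -- the homomorphism to the base group
  have hit : ∀ (i : ℕ) (v w : R), σ^[i] (v * w) = σ^[i] v * σ^[i] w := by
    intro i
    induction i with
    | zero => intro v w; rfl
    | succ i ih => intro v w; rw [Function.iterate_succ_apply, map_mul, ih]; rfl
  have hit1 : ∀ (i : ℕ), σ^[i] (1 : R) = 1 := by
    intro i
    induction i with
    | zero => rfl
    | succ i ih => rw [Function.iterate_succ_apply, map_one, ih]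
  let Φ : R →* (Fin p → Multiplicative (ZMod p)) :=
    { toFun := fun (r : R) (i : Fin p) => lam (σ^[(i : ℕ)] r)
      map_one' := by funext i; simp only [hit1, map_one]; rfl
      map_mul' := by intro a b; funext i; simp only [hit, map_mul]; rfl }
  have hΦ : Function.Surjective Φ := hsurj
  have hΦcard : Nat.card R = Nat.card Φ.ker * p ^ p := by
    have h1 := Subgroup.card_mul_index Φ.ker
    rw [Subgroup.index_ker, MonoidHom.range_eq_top.mpr hΦ, Subgroup.card_top] at h1
    rw [← h1]
    congr 1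
    simp
  have hQcard : Nat.card Q = Nat.card Φ.ker * p ^ (p + 1) := by
    have h1 := Subgroup.card_mul_index R
    rw [hidx, hΦcard] at h1
    rw [← h1, pow_succ]
    ring
  -- the point stabiliser
  have hlamsurj : Function.Surjective lam := by
    intro y
    obtain ⟨r, hr⟩ := hsurj (fun _ => y)
    refine ⟨r, ?_⟩
    have := congrFun hr ⟨0, hp.out.pos⟩
    simpa using this
  let K : Subgroup Q := lam.ker.map R.subtype
  have hKR : K ≤ R := Subgroup.map_subtype_le _
  have hKidx : K.index = p ^ 2 := by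
    have h1 : K.subgroupOf R = lam.ker := Subgroup.comap_map_eq_self_of_injective R.subtype_injective _
    have h2 := Subgroup.relIndex_mul_index hKR
    rw [Subgroup.relIndex, h1, Subgroup.index_ker, MonoidHom.range_eq_top.mpr hlamsurj,
      Subgroup.card_top, hidx] at h2
    rw [← h2, sq]
    congr 1
    simp
  have hcardQK : Nat.card (Q ⧸ K) = p ^ 2 := by rw [← Subgroup.index_eq_card, hKidx]
  let e : Q ⧸ K ≃ Fin (p ^ 2) := Finite.equivFinOfCardEq hcardQK
  let θ : Q →* Equiv.Perm (Q ⧸ K) := MulAction.toPermHom Q (Q ⧸ K)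
  let θ' : Q →* Equiv.Perm (Fin (p ^ 2)) := (e.permCongrHom).toMonoidHom.comp θ
  have hker : θ'.ker = K.normalCore := by
    rw [Subgroup.normalCore_eq_ker]
    ext q
    rw [MonoidHom.mem_ker, MonoidHom.mem_ker]
    exact MulEquiv.map_eq_one_iff e.permCongrHom
  have hkerle : Nat.card θ'.ker ≤ Nat.card Φ.ker := by
    have hle : θ'.ker ≤ Φ.ker.map R.subtype := by
      intro q hq
      rw [hker] at hq
      have hqK : q ∈ K := Subgroup.normalCore_le K hq
      refine ⟨⟨q, hKR hqK⟩, ?_, rfl⟩
      change Φ _ = 1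
      funext i
      change lam (σ^[(i : ℕ)] ⟨q, hKR hqK⟩) = 1
      have h1 : (z ^ (i : ℕ))⁻¹ * q * z ^ (i : ℕ) ∈ K := by
        have h2 := (inferInstance : K.normalCore.Normal).conj_mem q hq (z ^ (i : ℕ))⁻¹
        rw [inv_inv] at h2
        exact Subgroup.normalCore_le K h2
      obtain ⟨r, hr, hrq⟩ := h1
      have h3 : σ^[(i : ℕ)] ⟨q, hKR hqK⟩ = r := by
        apply Subtype.ext
        rw [iterate_conj R σ z hσ]
        exact hrq.symm
      rw [h3]
      exact hr
    refine le_trans (Subgroup.card_le_of_le hle) (le_of_eq ?_)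
    exact (Nat.card_congr (Φ.ker.equivMapOfInjective R.subtype R.subtype_injective).toEquiv).symm
  have hrange : Nat.card Q = Nat.card θ'.ker * Nat.card θ'.range := by
    rw [← Subgroup.card_mul_index θ'.ker, Subgroup.index_ker]
  have hrp : IsPGroup p θ'.range := hQ.of_surjective θ'.rangeRestrict θ'.rangeRestrict_surjective
  obtain ⟨k, hk⟩ := IsPGroup.iff_card.mp hrp
  have hfac : (Nat.card (Equiv.Perm (Fin (p ^ 2)))).factorization p = p + 1 := by
    rw [Nat.card_perm, Nat.card_fin, ← Nat.multiplicity_eq_factorization hp.out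
      (p ^ 2).factorial_ne_zero, Nat.Prime.multiplicity_factorial_pow hp.out,
      Finset.sum_range_succ, Finset.sum_range_one, pow_zero, pow_one, add_comm]
  have hk1 : k ≤ p + 1 := by
    have h1 := Subgroup.card_subgroup_dvd_card θ'.range
    rw [hk] at h1
    have h2 := (hp.out.pow_dvd_iff_le_factorization (Nat.card_pos (α := Equiv.Perm (Fin (p ^ 2)))).ne').mp h1
    rwa [hfac] at h2
  have hk2 : p + 1 ≤ k := by
    have h1 : Nat.card Φ.ker * p ^ (p + 1) ≤ Nat.card Φ.ker * p ^ k := by
      rw [← hQcard, hrange, hk]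
      exact Nat.mul_le_mul_right _ hkerle
    have h2 := Nat.le_of_mul_le_mul_left h1 Nat.card_pos
    exact (Nat.pow_le_pow_iff_right hp.out.one_lt).mp h2
  have hcard : Nat.card θ'.range = p ^ (Nat.card (Equiv.Perm (Fin (p ^ 2)))).factorization p := by
    rw [hk, hfac]
    congr 1
    omega
  exact ⟨Sylow.ofCard θ'.range hcard, θ'.rangeRestrict, θ'.rangeRestrict_surjective⟩

/-- **Yoshida's theorem**. -/
theorem yoshida {G : Type u} [Group G] [Finite G] {p : ℕ} [hp : Fact p.Prime] (S : Sylow p G)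
    (h : (S : Subgroup G) ⊓ commutator G ≠ (S : Subgroup G) ⊓
      ⁅Subgroup.normalizer ((S : Subgroup G) : Set G), Subgroup.normalizer ((S : Subgroup G) : Set G)⁆) :
    ∃ (P : Sylow p (Equiv.Perm (Fin (p ^ 2))))
      (f : ↥(S : Subgroup G) →* ↥(P : Subgroup (Equiv.Perm (Fin (p ^ 2))))),
        Function.Surjective f := by
  have hW : IsWeaklyClosed (S : Subgroup G) (S : Subgroup G) := by
    refine ⟨le_rfl, fun g hg => ?_⟩
    refine Subgroup.eq_of_le_of_card_ge hg ?_
    exact le_of_eq (Nat.card_congr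
      ((S : Subgroup G).equivMapOfInjective (MulAut.conj g).toMonoidHom (MulAut.conj g).injective).toEquiv)
  have hSH := le_normalizer_of_weaklyClosed _ _ hW
  obtain ⟨f, hf⟩ : ∃ f : Subgroup.normalizer ((S : Subgroup G) : Set G) →* Multiplicative (ZMod p),
      ¬ ∃ F : G →* Multiplicative (ZMod p),
        ∀ h : Subgroup.normalizer ((S : Subgroup G) : Set G), F h = f h := by
    by_contra hcon
    push Not at hcon
    exact h (Cfsg.Agent.H545.WielandtYoshida2.inf_commutator_eq S _ hSH fun f => by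
      obtain ⟨F, hF⟩ := hcon f
      exact ⟨F, hF⟩)
  obtain ⟨u, hu, z, hz, R, hRL, hRn, hRp, huR, hzR, lam, hm, hlam⟩ :=
    exists_of_hom_not_extends S (S : Subgroup G) hW _ rfl f hf
  have hL : (S : Subgroup G) ⊔ Subgroup.zpowers u = S := sup_eq_left.mpr (by
    rw [Subgroup.zpowers_le]; exact hu)
  rw [hL] at hRL hRn hRp
  let R' : Subgroup (S : Subgroup G) := R.subgroupOf S
  let ι : R' →* R :=
    { toFun := fun w => ⟨((w : (S : Subgroup G)) : G), Subgroup.mem_subgroupOf.mp w.2⟩
      map_one' := rfl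
      map_mul' := fun _ _ => rfl }
  have hcomm : ∀ (k : ℕ) (v w : (S : Subgroup G)),
      (((fun y : (S : Subgroup G) => y⁻¹ * w⁻¹ * y * w)^[k] v : (S : Subgroup G)) : G) =
        (fun y : G => y⁻¹ * (w : G)⁻¹ * y * w)^[k] (v : G) := by
    intro k v w
    induction k with
    | zero => rfl
    | succ k ih => rw [Function.iterate_succ_apply', Function.iterate_succ_apply', ← ih]; rfl
  have hm' : (fun y : (S : Subgroup G) => y⁻¹ * (⟨z, hz⟩ : (S : Subgroup G))⁻¹ * y * ⟨z, hz⟩)^[p - 1]
      (⟨u, hu⟩ : (S : Subgroup G)) ∈ R' := by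
    rw [Subgroup.mem_subgroupOf, hcomm]
    exact hm
  refine exists_surjective_of_comm S.2 R' (hR := hRn) hRp (lam.comp ι) ⟨z, hz⟩
    ⟨⟨u, hu⟩, Subgroup.mem_subgroupOf.mpr huR⟩ hm' ?_
  have h1 : ι ⟨_, hm'⟩ = ⟨_, hm⟩ := by
    apply Subtype.ext
    exact hcomm (p - 1) ⟨u, hu⟩ ⟨z, hz⟩
  rw [MonoidHom.comp_apply, h1]
  exact hlam

end Cfsg.Agent.H545.Yoshida
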